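import Mathlib

/-!
# Left derived functors from an adapted class of objects (helper2)

Let `L : C ⥤ D` be a localization functor for `W`, `F : C ⥤ H` a functor and `P` a class of objects
of `C` such that every object receives a `W`-morphism from a `P`-object and `F` inverts the
`W`-morphisms between `P`-objects.  If morphisms in `D` can be computed by right fractions (in a
form adapted to `F`), then `F` has a pointwise left derived functor, and the counit of any left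
derived functor is an isomorphism on `P`-objects.
-/

set_option autoImplicit false

namespace Groth.Agent.Lib.Helper2.LDer

open CategoryTheory Limits Category

universe v₁ v₂ v₃ u₁ u₂ u₃

variable {C : Type u₁} {D : Type u₂} {H : Type u₃}
  [Category.{v₁} C] [Category.{v₂} D] [Category.{v₃} H]

/-- `F` is left-adapted by the class `P` with respect to `W` and the functor `L`. -/
structure Adapted (W : MorphismProperty C) (L : C ⥤ D) (F : C ⥤ H) (P : C → Prop) : Prop where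
  id_mem : ∀ X : C, W (𝟙 X)
  comp_mem : ∀ ⦃X Y Z : C⦄ (f : X ⟶ Y) (g : Y ⟶ Z), W f → W g → W (f ≫ g)
  frac : ∀ ⦃Y X : C⦄ (φ : L.obj Y ⟶ L.obj X),
    ∃ (Y' : C) (s : Y' ⟶ Y) (g : Y' ⟶ X), W s ∧ L.map s ≫ φ = L.map g
  rel : ∀ ⦃Y Y₁ Y₂ X : C⦄ (s₁ : Y₁ ⟶ Y) (g₁ : Y₁ ⟶ X) (s₂ : Y₂ ⟶ Y) (g₂ : Y₂ ⟶ X)
    (φ : L.obj Y ⟶ L.obj X), W s₁ → W s₂ → L.map s₁ ≫ φ = L.map g₁ → L.map s₂ ≫ φ = L.map g₂ →
    ∃ (Z : C) (t₁ : Z ⟶ Y₁) (t₂ : Z ⟶ Y₂), W (t₁ ≫ s₁) ∧ F.map (t₁ ≫ s₁) = F.map (t₂ ≫ s₂) ∧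
      F.map (t₁ ≫ g₁) = F.map (t₂ ≫ g₂)
  res : ∀ X : C, ∃ (Y : C) (s : Y ⟶ X), P Y ∧ W s
  inv : ∀ ⦃Y Y' : C⦄ (s : Y ⟶ Y'), P Y → P Y' → W s → IsIso (F.map s)

namespace Adapted

variable {W : MorphismProperty C} {L : C ⥤ D} {F : C ⥤ H} {P : C → Prop}

/-- A representation of `φ : L Y ⟶ L X` as a right fraction with `P`-source. -/
structure Rep (W : MorphismProperty C) (L : C ⥤ D) (P : C → Prop) {Y X : C}
    (φ : L.obj Y ⟶ L.obj X) where
  Y₁ : C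
  s : Y₁ ⟶ Y
  g : Y₁ ⟶ X
  hP : P Y₁
  hs : W s
  fac : L.map s ≫ φ = L.map g

variable (h : Adapted W L F P)

include h in
lemma nonempty_rep {Y X : C} (φ : L.obj Y ⟶ L.obj X) : Nonempty (Rep W L P φ) := by
  obtain ⟨Y', s, g, hs, fac⟩ := h.frac φ
  obtain ⟨Y'', r, hY'', hr⟩ := h.res Y'
  exact ⟨⟨Y'', r ≫ s, r ≫ g, hY'', h.comp_mem _ _ hr hs, by
    rw [L.map_comp, L.map_comp, assoc, fac]⟩⟩

/-- The value of a representation. -/
noncomputable def val {Y X : C} (hY : P Y) {φ : L.obj Y ⟶ L.obj X} (ρ : Rep W L P φ) :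
    F.obj Y ⟶ F.obj X :=
  haveI := h.inv ρ.s ρ.hP hY ρ.hs
  CategoryTheory.inv (F.map ρ.s) ≫ F.map ρ.g

@[reassoc]
lemma val_spec {Y X : C} (hY : P Y) {φ : L.obj Y ⟶ L.obj X} (ρ : Rep W L P φ) :
    F.map ρ.s ≫ h.val hY ρ = F.map ρ.g := by
  haveI := h.inv ρ.s ρ.hP hY ρ.hs
  simp [val]

lemma val_eq {Y X : C} (hY : P Y) {φ : L.obj Y ⟶ L.obj X} (ρ₁ ρ₂ : Rep W L P φ) :
    h.val hY ρ₁ = h.val hY ρ₂ := by
  obtain ⟨Z, t₁, t₂, hW, e₁, e₂⟩ := h.rel ρ₁.s ρ₁.g ρ₂.s ρ₂.g φ ρ₁.hs ρ₂.hs ρ₁.fac ρ₂.fac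
  obtain ⟨Z', r, hZ', hr⟩ := h.res Z
  have hW' : W (r ≫ t₁ ≫ ρ₁.s) := h.comp_mem _ _ hr hW
  haveI i₃ : IsIso (F.map (r ≫ t₁ ≫ ρ₁.s)) := h.inv _ hZ' hY hW'
  have E₁ : F.map (r ≫ t₁ ≫ ρ₁.s) = F.map (r ≫ t₂ ≫ ρ₂.s) := by
    rw [F.map_comp, e₁, ← F.map_comp]
  have E₂ : F.map (r ≫ t₁ ≫ ρ₁.g) = F.map (r ≫ t₂ ≫ ρ₂.g) := by
    rw [F.map_comp, e₂, ← F.map_comp]
  have a₁ : F.map (r ≫ t₁ ≫ ρ₁.s) ≫ h.val hY ρ₁ = F.map (r ≫ t₁ ≫ ρ₁.g) := by
    simp only [Functor.map_comp, assoc, val_spec]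
  have a₂ : F.map (r ≫ t₂ ≫ ρ₂.s) ≫ h.val hY ρ₂ = F.map (r ≫ t₂ ≫ ρ₂.g) := by
    simp only [Functor.map_comp, assoc, val_spec]
  rw [← cancel_epi (F.map (r ≫ t₁ ≫ ρ₁.s)), a₁, E₂, ← a₂, E₁]

/-- The chosen leg. -/
noncomputable def leg {Y X : C} (hY : P Y) (φ : L.obj Y ⟶ L.obj X) : F.obj Y ⟶ F.obj X :=
  h.val hY (h.nonempty_rep φ).some

lemma leg_eq {Y X : C} (hY : P Y) {φ : L.obj Y ⟶ L.obj X} (ρ : Rep W L P φ) :
    h.leg hY φ = h.val hY ρ :=
  h.val_eq hY _ _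

lemma leg_id {Y : C} (hY : P Y) : h.leg hY (𝟙 (L.obj Y)) = 𝟙 _ := by
  let ρ : Rep W L P (𝟙 (L.obj Y)) := ⟨Y, 𝟙 Y, 𝟙 Y, hY, h.id_mem Y, by simp⟩
  rw [h.leg_eq hY ρ]
  have := h.val_spec hY ρ
  simpa [ρ] using this

/-- The cone with point `F Y` over the diagram computing the right Kan extension at `L Y`. -/
noncomputable def cone {Y : C} (hY : P Y) : Cone (StructuredArrow.proj (L.obj Y) L ⋙ F) where
  pt := F.obj Y
  π :=
    { app := fun j => h.leg hY (X := j.right) j.hom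
      naturality := fun j j' f => by
        dsimp
        rw [id_comp]
        change h.leg hY (X := j'.right) j'.hom = h.leg hY (X := j.right) j.hom ≫ F.map f.right
        let ρ := (h.nonempty_rep j.hom).some
        let ρ' : Rep W L P j'.hom := ⟨ρ.Y₁, ρ.s, ρ.g ≫ f.right, ρ.hP, ρ.hs, by
          rw [L.map_comp, ← ρ.fac, assoc, StructuredArrow.w f]⟩
        rw [h.leg_eq hY ρ', h.leg_eq hY ρ]
        haveI := h.inv ρ.s ρ.hP hY ρ.hs
        rw [← cancel_epi (F.map ρ.s), h.val_spec_assoc hY ρ]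
        have := h.val_spec hY ρ'
        simpa [ρ'] using this }

/-- The cone is a limit cone. -/
noncomputable def isLimitCone [L.IsLocalization W] {Y : C} (hY : P Y) : IsLimit (h.cone hY) where
  lift t := t.π.app (StructuredArrow.mk (𝟙 (L.obj Y)))
  fac t j := by
    let ρ := (h.nonempty_rep j.hom).some
    haveI : IsIso (L.map ρ.s) := Localization.inverts L W ρ.s ρ.hs
    let A : StructuredArrow (L.obj Y) L := StructuredArrow.mk (CategoryTheory.inv (L.map ρ.s))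
    let a : A ⟶ StructuredArrow.mk (𝟙 (L.obj Y)) := StructuredArrow.homMk ρ.s (by simp [A])
    let b : A ⟶ j := StructuredArrow.homMk ρ.g (by
      simp only [A, StructuredArrow.mk_hom_eq_self]
      rw [← ρ.fac, IsIso.inv_hom_id_assoc])
    let pA : t.pt ⟶ F.obj ρ.Y₁ := t.π.app A
    let p1 : t.pt ⟶ F.obj Y := t.π.app (StructuredArrow.mk (𝟙 (L.obj Y)))
    let pj : t.pt ⟶ F.obj j.right := t.π.app j
    have ha : pA ≫ F.map ρ.s = p1 := t.w a
    have hb : pA ≫ F.map ρ.g = pj := t.w b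
    have key : p1 ≫ h.leg (Y := Y) hY (X := j.right) j.hom = pj := by
      rw [h.leg_eq hY ρ, ← ha, assoc, h.val_spec hY ρ, hb]
    exact key
  uniq t m hm := by
    have := hm (StructuredArrow.mk (𝟙 (L.obj Y)))
    have e1 : h.leg (Y := Y) hY (X := Y) (𝟙 (L.obj Y)) = 𝟙 (F.obj Y) := h.leg_id hY
    have e2 : m ≫ h.leg (Y := Y) hY (X := Y) (𝟙 (L.obj Y)) = t.π.app (StructuredArrow.mk (𝟙 (L.obj Y))) := this
    rw [e1] at e2
    exact (comp_id m).symm.trans e2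

variable [L.IsLocalization W]

include h in
theorem hasPointwiseLeftDerivedFunctor : F.HasPointwiseLeftDerivedFunctor W := by
  intro X
  obtain ⟨Y, s, hY, hs⟩ := h.res X
  rw [← F.hasPointwiseLeftDerivedFunctorAt_iff_of_mem W s hs,
    F.hasPointwiseLeftDerivedFunctorAt_iff L W]
  exact ⟨⟨_, h.isLimitCone hY⟩⟩

include h in
theorem hasLeftDerivedFunctor : F.HasLeftDerivedFunctor W := by
  haveI := h.hasPointwiseLeftDerivedFunctor
  infer_instance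

include h in
/-- The counit of a left derived functor is an isomorphism on `P`-objects. -/
theorem isIso_app (LF : D ⥤ H) (α : L ⋙ LF ⟶ F) [LF.IsLeftDerivedFunctor α W] {Y : C}
    (hY : P Y) : IsIso (α.app Y) := by
  haveI := h.hasPointwiseLeftDerivedFunctor
  have h1 : IsLimit ((Functor.RightExtension.mk LF α).coneAt (L.obj Y)) :=
    Functor.isPointwiseRightKanExtensionOfHasPointwiseLeftDerivedFunctor LF α W (L.obj Y)
  let e := h1.conePointUniqueUpToIso (h.isLimitCone hY)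
  have he : e.hom = α.app Y := by
    change ((Functor.RightExtension.mk LF α).coneAt (L.obj Y)).π.app
      (StructuredArrow.mk (𝟙 (L.obj Y))) = _
    simp
  rw [← he]
  infer_instance

end Adapted

end Groth.Agent.Lib.Helper2.LDer
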