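import Mathlib
import Groth.Agent.Lib.Helper2.LDer.Adapted

/-!
# Constructors for adapted classes (helper2)

* `Adapted.of_calculus`: when `W` has a right calculus of fractions.
* `Adapted.of_cochainComplex`: for cochain complexes, quasi-isomorphisms and `DerivedCategory.Q`,
  for functors which identify homotopic maps.
-/

set_option autoImplicit false

namespace Groth.Agent.Lib.Helper2.LDer

open CategoryTheory Limits Category

universe w v v₁ v₂ v₃ u u₁ u₂ u₃

section Calculus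

variable {C : Type u₁} {D : Type u₂} {H : Type u₃}
  [Category.{v₁} C] [Category.{v₂} D] [Category.{v₃} H]
  (W : MorphismProperty C) [W.HasRightCalculusOfFractions] (L : C ⥤ D) [L.IsLocalization W]
  (F : C ⥤ H) (P : C → Prop)

theorem Adapted.of_calculus (res : ∀ X : C, ∃ (Y : C) (s : Y ⟶ X), P Y ∧ W s)
    (inv : ∀ ⦃Y Y' : C⦄ (s : Y ⟶ Y'), P Y → P Y' → W s → IsIso (F.map s)) :
    Adapted W L F P where
  id_mem := W.id_mem
  comp_mem := fun _ _ _ f g hf hg => W.comp_mem f g hf hg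
  frac := fun Y X φ => by
    obtain ⟨ψ, hψ⟩ := Localization.exists_rightFraction L W φ
    exact ⟨ψ.X', ψ.s, ψ.f, ψ.hs, by rw [hψ, MorphismProperty.RightFraction.map_s_comp_map]⟩
  rel := fun Y Y₁ Y₂ X s₁ g₁ s₂ g₂ φ hs₁ hs₂ e₁ e₂ => by
    let ψ₁ : W.RightFraction Y X := ⟨s₁, hs₁, g₁⟩
    let ψ₂ : W.RightFraction Y X := ⟨s₂, hs₂, g₂⟩
    have h₁ : ψ₁.map L (Localization.inverts L W) = φ := by
      haveI : IsIso (L.map ψ₁.s) := Localization.inverts L W s₁ hs₁
      rw [← cancel_epi (L.map ψ₁.s), MorphismProperty.RightFraction.map_s_comp_map]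
      exact e₁.symm
    have h₂ : ψ₂.map L (Localization.inverts L W) = φ := by
      haveI : IsIso (L.map ψ₂.s) := Localization.inverts L W s₂ hs₂
      rw [← cancel_epi (L.map ψ₂.s), MorphismProperty.RightFraction.map_s_comp_map]
      exact e₂.symm
    obtain ⟨Z, t₁, t₂, hst, hft, ht⟩ :=
      (MorphismProperty.RightFraction.map_eq_iff L W ψ₁ ψ₂).1 (h₁.trans h₂.symm)
    exact ⟨Z, t₁, t₂, ht, by
      change F.map (t₁ ≫ ψ₁.s) = F.map (t₂ ≫ ψ₂.s)
      rw [hst], by
      change F.map (t₁ ≫ ψ₁.f) = F.map (t₂ ≫ ψ₂.f)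
      rw [hft]⟩
  res := res
  inv := inv

end Calculus

section Cx

variable {A : Type u} [Category.{v} A] [Abelian A] [HasDerivedCategory.{w} A]
  {H : Type u₃} [Category.{v₃} H]
  (F : CochainComplex A ℤ ⥤ H) (P : CochainComplex A ℤ → Prop)

open DerivedCategory in
theorem Adapted.of_cochainComplex
    (hF : ∀ ⦃K L : CochainComplex A ℤ⦄ (f g : K ⟶ L), Homotopy f g → F.map f = F.map g)
    (res : ∀ X : CochainComplex A ℤ, ∃ (Y : CochainComplex A ℤ) (s : Y ⟶ X), P Y ∧ QuasiIso s)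
    (inv : ∀ ⦃Y Y' : CochainComplex A ℤ⦄ (s : Y ⟶ Y'), P Y → P Y' → QuasiIso s →
      IsIso (F.map s)) :
    Adapted (HomologicalComplex.quasiIso A (ComplexShape.up ℤ)) DerivedCategory.Q F P where
  id_mem := fun X => by
    rw [HomologicalComplex.mem_quasiIso_iff]
    infer_instance
  comp_mem := fun _ _ _ f g hf hg => by
    rw [HomologicalComplex.mem_quasiIso_iff] at hf hg ⊢
    infer_instance
  frac := fun Y X φ => by
    obtain ⟨Y', s, hs, g, hφ⟩ := DerivedCategory.right_fac φ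
    refine ⟨Y', s, g, ?_, ?_⟩
    · rw [HomologicalComplex.mem_quasiIso_iff, ← isIso_Q_map_iff_quasiIso]
      exact hs
    · rw [hφ, IsIso.hom_inv_id_assoc]
  rel := fun Y Y₁ Y₂ X s₁ g₁ s₂ g₂ φ hs₁ hs₂ e₁ e₂ => by
    let q := HomotopyCategory.quotient A (ComplexShape.up ℤ)
    let WK := HomotopyCategory.quasiIso A (ComplexShape.up ℤ)
    have hs₁' : WK (q.map s₁) := (HomotopyCategory.quotient_map_mem_quasiIso_iff s₁).2 hs₁
    have hs₂' : WK (q.map s₂) := (HomotopyCategory.quotient_map_mem_quasiIso_iff s₂).2 hs₂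
    let ψ₁ : WK.RightFraction (q.obj Y) (q.obj X) := ⟨q.map s₁, hs₁', q.map g₁⟩
    let ψ₂ : WK.RightFraction (q.obj Y) (q.obj X) := ⟨q.map s₂, hs₂', q.map g₂⟩
    let φ' : Qh.obj (q.obj Y) ⟶ Qh.obj (q.obj X) :=
      (quotientCompQhIso A).hom.app Y ≫ φ ≫ (quotientCompQhIso A).inv.app X
    have h₁ : ψ₁.map Qh (Localization.inverts Qh WK) = φ' := by
      haveI : IsIso (Qh.map ψ₁.s) := Localization.inverts Qh WK _ hs₁'
      rw [← cancel_epi (Qh.map ψ₁.s), MorphismProperty.RightFraction.map_s_comp_map]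
      change Qh.map (q.map g₁) = Qh.map (q.map s₁) ≫ (quotientCompQhIso A).hom.app Y ≫ φ ≫
        (quotientCompQhIso A).inv.app X
      rw [quotientCompQhIso_hom_naturality_assoc, reassoc_of% e₁,
        quotientCompQhIso_inv_naturality, Iso.hom_inv_id_app_assoc]
    have h₂ : ψ₂.map Qh (Localization.inverts Qh WK) = φ' := by
      haveI : IsIso (Qh.map ψ₂.s) := Localization.inverts Qh WK _ hs₂'
      rw [← cancel_epi (Qh.map ψ₂.s), MorphismProperty.RightFraction.map_s_comp_map]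
      change Qh.map (q.map g₂) = Qh.map (q.map s₂) ≫ (quotientCompQhIso A).hom.app Y ≫ φ ≫
        (quotientCompQhIso A).inv.app X
      rw [quotientCompQhIso_hom_naturality_assoc, reassoc_of% e₂,
        quotientCompQhIso_inv_naturality, Iso.hom_inv_id_app_assoc]
    obtain ⟨Z, t₁, t₂, hst, hft, ht⟩ :=
      (MorphismProperty.RightFraction.map_eq_iff Qh WK ψ₁ ψ₂).1 (h₁.trans h₂.symm)
    obtain ⟨Z, rfl⟩ := HomotopyCategory.quotient_obj_surjective Z
    obtain ⟨t₁, rfl⟩ := q.map_surjective t₁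
    obtain ⟨t₂, rfl⟩ := q.map_surjective t₂
    change q.map t₁ ≫ q.map s₁ = q.map t₂ ≫ q.map s₂ at hst
    change q.map t₁ ≫ q.map g₁ = q.map t₂ ≫ q.map g₂ at hft
    change WK (q.map t₁ ≫ q.map s₁) at ht
    rw [← q.map_comp, ← q.map_comp] at hst hft
    rw [← q.map_comp] at ht
    exact ⟨Z, t₁, t₂, (HomotopyCategory.quotient_map_mem_quasiIso_iff _).1 ht,
      hF _ _ (HomotopyCategory.homotopyOfEq _ _ hst),
      hF _ _ (HomotopyCategory.homotopyOfEq _ _ hft)⟩
  res := fun X => by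
    obtain ⟨Y, s, hY, hs⟩ := res X
    exact ⟨Y, s, hY, (HomologicalComplex.mem_quasiIso_iff s).2 hs⟩
  inv := fun Y Y' s hY hY' hs => inv s hY hY' ((HomologicalComplex.mem_quasiIso_iff s).1 hs)

end Cx

end Groth.Agent.Lib.Helper2.LDer
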