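import Mathlib

/-!
# The total complex `Tot F(K, G[0])` is `F(-, G)` applied termwise to `K` (helper2)
-/

set_option autoImplicit false

namespace Groth.Agent.Lib.Helper2.LDer

open CategoryTheory Limits Category HomologicalComplex

variable {C₁ C₂ D : Type*} [Category C₁] [Category C₂] [Category D]
  [Abelian C₁] [Abelian C₂] [Abelian D]
  (F : C₁ ⥤ C₂ ⥤ D) [F.Additive] [∀ X₁, (F.obj X₁).Additive]
  [∀ (K₁ : CochainComplex C₁ ℤ) (K₂ : CochainComplex C₂ ℤ),
    HasMapBifunctor K₁ K₂ F (ComplexShape.up ℤ)]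

local notation "cc" => ComplexShape.up ℤ

/-- The complex `G[0]`. -/
noncomputable abbrev sgl (G : C₂) : CochainComplex C₂ ℤ := (single C₂ cc 0).obj G

lemma pi_zero (n : ℤ) : ComplexShape.π cc cc cc (n, 0) = n := by simp

instance additive_flip_obj' (G : C₂) : (F.flip.obj G).Additive := { }

/-- The termwise comparison map. -/
noncomputable def singleHomX (K : CochainComplex C₁ ℤ) (G : C₂) (n : ℤ) :
    (F.obj (K.X n)).obj G ⟶ (mapBifunctor K (sgl G) F cc).X n :=
  (F.obj (K.X n)).map (singleObjXSelf cc 0 G).inv ≫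
    ιMapBifunctor K (sgl G) F cc n 0 n (pi_zero n)

/-- The termwise inverse. -/
noncomputable def singleInvX (K : CochainComplex C₁ ℤ) (G : C₂) (n : ℤ) :
    (mapBifunctor K (sgl G) F cc).X n ⟶ (F.obj (K.X n)).obj G :=
  mapBifunctorDesc (fun p q hpq =>
    if hq : q = 0 then
      (F.obj (K.X p)).map (singleObjXIsoOfEq cc 0 G q hq).hom ≫
        eqToHom (by
          subst hq
          have : p = n := by simpa using hpq
          rw [this])
    else 0)

lemma singleHomX_invX (K : CochainComplex C₁ ℤ) (G : C₂) (n : ℤ) :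
    singleHomX F K G n ≫ singleInvX F K G n = 𝟙 _ := by
  unfold singleHomX singleInvX
  rw [assoc, ι_mapBifunctorDesc, dif_pos rfl]
  simp only [eqToHom_refl, comp_id]
  rw [← Functor.map_comp]
  change (F.obj (K.X n)).map ((singleObjXSelf cc 0 G).inv ≫ (singleObjXSelf cc 0 G).hom) = _
  rw [Iso.inv_hom_id, CategoryTheory.Functor.map_id]

lemma singleInvX_homX (K : CochainComplex C₁ ℤ) (G : C₂) (n : ℤ) :
    singleInvX F K G n ≫ singleHomX F K G n = 𝟙 _ := by
  apply mapBifunctor.hom_ext
  intro p q hpq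
  unfold singleInvX
  rw [ι_mapBifunctorDesc_assoc, comp_id]
  by_cases hq : q = 0
  · subst hq
    have hp : p = n := by simpa using hpq
    subst hp
    rw [dif_pos rfl]
    simp only [eqToHom_refl, comp_id]
    unfold singleHomX
    rw [← Functor.map_comp_assoc]
    change (F.obj (K.X p)).map ((singleObjXSelf cc 0 G).hom ≫ (singleObjXSelf cc 0 G).inv) ≫ _ = _
    rw [Iso.hom_inv_id, CategoryTheory.Functor.map_id, id_comp]
  · apply IsZero.eq_of_src
    exact Functor.map_isZero (F.obj (K.X p)) (isZero_single_obj_X cc 0 G q hq)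

/-- The termwise isomorphism. -/
noncomputable def singleIsoX (K : CochainComplex C₁ ℤ) (G : C₂) (n : ℤ) :
    (F.obj (K.X n)).obj G ≅ (mapBifunctor K (sgl G) F cc).X n where
  hom := singleHomX F K G n
  inv := singleInvX F K G n
  hom_inv_id := singleHomX_invX F K G n
  inv_hom_id := singleInvX_homX F K G n

lemma singleHomX_d (K : CochainComplex C₁ ℤ) (G : C₂) (n : ℤ) :
    singleHomX F K G n ≫ (mapBifunctor K (sgl G) F cc).d n (n + 1) =
      (F.map (K.d n (n + 1))).app G ≫ singleHomX F K G (n + 1) := by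
  unfold singleHomX
  rw [assoc, mapBifunctor.d_eq, Preadditive.comp_add, mapBifunctor.ι_D₁, mapBifunctor.ι_D₂,
    mapBifunctor.d₁_eq K (sgl G) F cc (show (ComplexShape.up ℤ).Rel n (n + 1) from rfl) 0 (n + 1) (pi_zero (n + 1)),
    mapBifunctor.d₂_eq K (sgl G) F cc n (show (ComplexShape.up ℤ).Rel 0 1 from rfl) (n + 1) (by simp)]
  simp only [single_obj_d, CategoryTheory.Functor.map_zero, zero_comp, smul_zero, add_zero]
  have hε : ComplexShape.ε₁ (ComplexShape.up ℤ) (ComplexShape.up ℤ) (ComplexShape.up ℤ)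
      (n, 0) = 1 := rfl
  rw [hε, one_smul, ← assoc, (F.map (K.d n (n + 1))).naturality, assoc]

/-- `F(-, G)` applied termwise to `K` is the total complex of `F(K, G[0])`. -/
noncomputable def singleIso (K : CochainComplex C₁ ℤ) (G : C₂) :
    ((F.flip.obj G).mapHomologicalComplex cc).obj K ≅ mapBifunctor K (sgl G) F cc :=
  HomologicalComplex.Hom.isoOfComponents (fun n => singleIsoX F K G n) (by
    rintro i j (rfl : i + 1 = j)
    exact singleHomX_d F K G i)

lemma singleIso_hom_naturality {K K' : CochainComplex C₁ ℤ} (f : K ⟶ K') (G : C₂) :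
    ((F.flip.obj G).mapHomologicalComplex cc).map f ≫ (singleIso F K' G).hom =
      (singleIso F K G).hom ≫ mapBifunctorMap f (𝟙 (sgl G)) F cc := by
  ext n
  change (F.map (f.f n)).app G ≫ singleHomX F K' G n =
    singleHomX F K G n ≫ (mapBifunctorMap f (𝟙 (sgl G)) F cc).f n
  unfold singleHomX
  rw [assoc, ι_mapBifunctorMap]
  simp only [HomologicalComplex.id_f, CategoryTheory.Functor.map_id, id_comp]
  rw [← assoc, ← assoc, (F.map (f.f n)).naturality]

lemma quasiIso_mapBifunctorMap_single_iff {K K' : CochainComplex C₁ ℤ} (f : K ⟶ K') (G : C₂) :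
    QuasiIso (mapBifunctorMap f (𝟙 (sgl G)) F cc) ↔
      QuasiIso (((F.flip.obj G).mapHomologicalComplex cc).map f) := by
  refine (quasiIso_iff_of_arrow_mk_iso _ _ ?_).symm
  exact Arrow.isoMk (singleIso F K G) (singleIso F K' G) (singleIso_hom_naturality F f G).symm

end Groth.Agent.Lib.Helper2.LDer
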