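import Mathlib
import Groth.Prelude.Def_DTor2
import Groth.Agent.Lib.Helper2.LDer.Constructors
import Groth.Agent.Lib.Helper2.LDer.Single
import Groth.Agent.Lib.Helper2.Tot.DCoh
import Groth.Agent.Lib.Helper2.Tot.ModSiteSymm
import Groth.Agent.Lib.Helper21.StalkFlatG

/-!
# Derived tensor product with a module on a scheme, computed by K-flat resolutions (helper2)

* `Good P`: the complex `P` is K-flat in the first variable of the tensor product.
* `hasLTensorMod G`: the left derived functor of `- ⊗ G` exists.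
* `LTensorModIso`: `K ⊗^L G` is computed termwise on good complexes.
-/

set_option autoImplicit false
universe u
open CategoryTheory Limits HomologicalComplex AlgebraicGeometry

attribute [local instance] HasDerivedCategory.standard

namespace Groth.Agent.Lib.Helper2.LDer.DC

open Groth.Agent.Lib.Helper2 Groth.Agent.Lib.Helper2.LDer

variable {X : Scheme.{u}}

/-- K-flat in the first variable. -/
def Good (P : CochainComplex X.Modules ℤ) : Prop :=
  Tot.KFlat (DCoh.tensorBi (X := X)).flip P

theorem exists_good_resolution (K : CochainComplex X.Modules ℤ) :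
    ∃ (P : CochainComplex X.Modules ℤ) (s : P ⟶ K), Good P ∧ DCoh.IsKFlat P ∧
      (∀ n, FlatMod.IsFlat (P.X n)) ∧ QuasiIso s ∧ ∀ n, Epi (s.f n) := by
  obtain ⟨P, s, h1, h2, h3, h4, h5⟩ := Tot.MS.exists_resolution (O := X.sheaf) K
  exact ⟨P, s, h2, (Tot.DC.isKFlat_iff P).2 h1,
    fun n => Groth.Agent.Lib.Helper21.StalkFlatG.stalkwise_of_isFlat _ (h3 n), h4, h5⟩

theorem good_of_isStrictlyLE (K : CochainComplex X.Modules ℤ) (b : ℤ) [K.IsStrictlyLE b]
    (hflat : ∀ n, FlatMod.IsFlat (K.X n)) : Good K :=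
  @Tot.MS.kflat_flip_of_isStrictlyLE _ _ _ X.sheaf K b ‹K.IsStrictlyLE b›
    (fun n => Groth.Agent.Lib.Helper21.StalkFlatD.isFlat_of_stalkwise _ (hflat n))

theorem quasiIso_map₁_of_good {P P' : CochainComplex X.Modules ℤ} (s : P ⟶ P') [QuasiIso s]
    (hP : Good P) (hP' : Good P') (L : CochainComplex X.Modules ℤ) :
    QuasiIso (mapBifunctorMap s (𝟙 L) (DCoh.tensorBi (X := X)) (ComplexShape.up ℤ)) := by
  haveI h1 : QuasiIso (mapBifunctorMap (𝟙 L) s (DCoh.tensorBi (X := X)).flip
      (ComplexShape.up ℤ)) :=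
    Tot.quasiIso_map₂_of_kflat (F := (DCoh.tensorBi (X := X)).flip) (fun L' => by
      obtain ⟨K, q, h1, _, _, h4, _⟩ := Tot.MS.exists_resolution (O := X.sheaf) L'
      exact ⟨K, q, h1, h4⟩) hP hP' s L
  have hnat := mapBifunctorFlipIso_hom_naturality s (𝟙 L) (DCoh.tensorBi (X := X))
    (ComplexShape.up ℤ)
  have h2 : mapBifunctorMap s (𝟙 L) (DCoh.tensorBi (X := X)) (ComplexShape.up ℤ) =
      (mapBifunctorFlipIso P L (DCoh.tensorBi (X := X)) (ComplexShape.up ℤ)).inv ≫
        mapBifunctorMap (𝟙 L) s (DCoh.tensorBi (X := X)).flip (ComplexShape.up ℤ) ≫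
          (mapBifunctorFlipIso P' L (DCoh.tensorBi (X := X)) (ComplexShape.up ℤ)).hom := by
    rw [hnat, Iso.inv_hom_id_assoc]
  rw [h2]
  infer_instance

theorem quasiIso_tensorRightMod_of_good {P P' : CochainComplex X.Modules ℤ} (s : P ⟶ P')
    [QuasiIso s] (hP : Good P) (hP' : Good P') (G : X.Modules) :
    QuasiIso (((DCoh.tensorRightMod G).mapHomologicalComplex (ComplexShape.up ℤ)).map s) := by
  have h := quasiIso_map₁_of_good s hP hP' (sgl G)
  exact (quasiIso_mapBifunctorMap_single_iff (DCoh.tensorBi (X := X)) s G).1 h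

/-- The class of objects of the homotopy category represented by good complexes. -/
def PK (Y : HomotopyCategory X.Modules (ComplexShape.up ℤ)) : Prop :=
  ∃ P : CochainComplex X.Modules ℤ, Good P ∧ Y = (HomotopyCategory.quotient _ _).obj P

theorem adapted_tensorModKh (G : X.Modules) :
    Adapted (HomotopyCategory.quasiIso X.Modules (ComplexShape.up ℤ)) DerivedCategory.Qh
      (DCoh.tensorModKh G) PK := by
  refine Adapted.of_calculus _ _ _ _ ?_ ?_
  · intro Y
    obtain ⟨K, rfl⟩ := HomotopyCategory.quotient_obj_surjective Y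
    obtain ⟨P, s, hP, _, _, hs, _⟩ := exists_good_resolution K
    exact ⟨_, (HomotopyCategory.quotient _ _).map s, ⟨P, hP, rfl⟩,
      (HomotopyCategory.quotient_map_mem_quasiIso_iff s).2
        ((HomologicalComplex.mem_quasiIso_iff s).2 hs)⟩
  · rintro Y Y' s' ⟨P, hP, rfl⟩ ⟨P', hP', rfl⟩ hs'
    obtain ⟨s, rfl⟩ := (HomotopyCategory.quotient _ _).map_surjective s'
    haveI : QuasiIso s := (HomologicalComplex.mem_quasiIso_iff s).1
      ((HomotopyCategory.quotient_map_mem_quasiIso_iff s).1 hs')
    have hq := quasiIso_tensorRightMod_of_good s hP hP' G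
    change IsIso (DerivedCategory.Qh.map ((HomotopyCategory.quotient _ _).map
      (((DCoh.tensorRightMod G).mapHomologicalComplex (ComplexShape.up ℤ)).map s)))
    exact Localization.inverts DerivedCategory.Qh (HomotopyCategory.quasiIso _ _) _
      ((HomotopyCategory.quotient_map_mem_quasiIso_iff _).2
        ((HomologicalComplex.mem_quasiIso_iff _).2 hq))

/-- The derived functor `- ⊗^L G` exists. -/
theorem hasLTensorMod (G : X.Modules) : DCoh.HasLTensorMod G :=
  (adapted_tensorModKh G).hasLeftDerivedFunctor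

/-- The value of `tensorModKh` on the class of a complex. -/
noncomputable def tensorModKhObjIso (G : X.Modules) (P : CochainComplex X.Modules ℤ) :
    (DCoh.tensorModKh G).obj ((HomotopyCategory.quotient _ _).obj P) ≅
      DCoh.toD X (((DCoh.tensorRightMod G).mapHomologicalComplex (ComplexShape.up ℤ)).obj P) :=
  DerivedCategory.Qh.mapIso
      (((DCoh.tensorRightMod G).mapHomotopyCategoryFactors (ComplexShape.up ℤ)).app P) ≪≫
    (DerivedCategory.quotientCompQhIso X.Modules).app _

theorem isIso_counit_app (G : X.Modules) [DCoh.HasLTensorMod G] (P : CochainComplex X.Modules ℤ)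
    (hP : Good P) :
    IsIso (((DCoh.tensorModKh G).totalLeftDerivedCounit DerivedCategory.Qh
      (HomotopyCategory.quasiIso X.Modules (ComplexShape.up ℤ))).app
        ((HomotopyCategory.quotient _ _).obj P)) :=
  (adapted_tensorModKh G).isIso_app (DCoh.LTensorMod G) _ ⟨P, hP, rfl⟩

/-- `K ⊗^L G` is computed termwise on good complexes. -/
noncomputable def LTensorModIso (G : X.Modules) [DCoh.HasLTensorMod G]
    (P : CochainComplex X.Modules ℤ) (hP : Good P) :
    (DCoh.LTensorMod G).obj (DCoh.toD X P) ≅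
      DCoh.toD X (((DCoh.tensorRightMod G).mapHomologicalComplex (ComplexShape.up ℤ)).obj P) :=
  haveI := isIso_counit_app G P hP
  (DCoh.LTensorMod G).mapIso ((DerivedCategory.quotientCompQhIso X.Modules).app P).symm ≪≫
    asIso (((DCoh.tensorModKh G).totalLeftDerivedCounit DerivedCategory.Qh
      (HomotopyCategory.quasiIso X.Modules (ComplexShape.up ℤ))).app
        ((HomotopyCategory.quotient _ _).obj P)) ≪≫
    tensorModKhObjIso G P

theorem nonempty_HD_iso (G : X.Modules) [DCoh.HasLTensorMod G] (K : DCoh.D X)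
    (P : CochainComplex X.Modules ℤ) (hP : Good P) (e : DCoh.toD X P ≅ K) (i : ℤ) :
    Nonempty (DCoh.HD ((DCoh.LTensorMod G).obj K) i ≅
      (((DCoh.tensorRightMod G).mapHomologicalComplex (ComplexShape.up ℤ)).obj P).homology i) :=
  ⟨(DerivedCategory.homologyFunctor X.Modules i).mapIso
      ((DCoh.LTensorMod G).mapIso e.symm ≪≫ LTensorModIso G P hP) ≪≫
    (DerivedCategory.homologyFunctorFactors X.Modules i).app _⟩

theorem isStrictlyLE_of_vanishesOutside (E : CochainComplex X.Modules ℤ) (a b : ℤ)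
    (hE : DCoh.VanishesOutside E a b) : E.IsStrictlyLE b := by
  rw [CochainComplex.isStrictlyLE_iff]
  intro i hi
  exact hE i (Or.inr hi)

theorem isZero_HD_of_flatAmplitude (G : X.Modules) [DCoh.HasLTensorMod G] (K : DCoh.D X)
    (a b : ℤ) (h : DCoh.HasFlatAmplitudeIn a b K) (i : ℤ) (hi : i < a ∨ b < i) :
    IsZero (DCoh.HD ((DCoh.LTensorMod G).obj K) i) := by
  obtain ⟨E, hE, hflat, ⟨e⟩⟩ := h
  haveI := isStrictlyLE_of_vanishesOutside E a b hE
  obtain ⟨φ⟩ := nonempty_HD_iso G K E (good_of_isStrictlyLE E b hflat) e i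
  refine IsZero.of_iso ?_ φ
  apply ShortComplex.isZero_homology_of_isZero_X₂
  exact Functor.map_isZero (DCoh.tensorRightMod G) (hE i hi)

end Groth.Agent.Lib.Helper2.LDer.DC
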