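import Mathlib
import Groth.Agent.Lib.Helper2.LDer.DCohTor
import Groth.Agent.Lib.Helper2.Tot.FactorSES
import Groth.Agent.Lib.Helper2.StalkFlat.Closure

/-!
# Distinguished triangles and the derived tensor product with a module (helper2)

* `exists_good_factorization`: factor a map from a good complex through a good resolution, by a
  degreewise split short exact sequence of good complexes.
* `exists_ses_of_distinguished`: every distinguished triangle of `D(O_X)` is represented by a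
  degreewise split short exact sequence of good complexes.
* `triangle_vanishing`: the vanishing consequences of the long exact sequence of
  `H^i(- ⊗^L G)` on a distinguished triangle.
-/

set_option autoImplicit false
universe u
open CategoryTheory Limits HomologicalComplex AlgebraicGeometry

attribute [local instance] HasDerivedCategory.standard

namespace Groth.Agent.Lib.Helper2.LDer.DC

open Groth.Agent.Lib.Helper2 Groth.Agent.Lib.Helper2.LDer
open Pretriangulated DerivedCategory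

variable {X : Scheme.{u}}

theorem exists_good_factorization {K L : CochainComplex X.Modules ℤ} (a : K ⟶ L) (hK : Good K) :
    ∃ (N M : CochainComplex X.Modules ℤ) (b : K ⟶ N) (p : N ⟶ M) (w : b ≫ p = 0) (c : N ⟶ L),
      (ShortComplex.mk b p w).ShortExact ∧
      (∀ q : ℤ, Nonempty ((ShortComplex.mk b p w).map
        (eval X.Modules (ComplexShape.up ℤ) q)).Splitting) ∧
      Good N ∧ Good M ∧ QuasiIso c ∧ b ≫ c = a ∧ (∀ n, FlatMod.IsFlat (M.X n)) ∧
      ((∀ n, FlatMod.IsFlat (K.X n)) → ∀ n, FlatMod.IsFlat (N.X n)) :=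
  Tot.exists_factorization_ses (F := (DCoh.tensorBi (X := X)).flip)
    (fun M : X.Modules => FlatMod.IsFlat M)
    (fun S s h₁ h₃ => StalkFlat.isFlat_of_splitting S s h₁ h₃)
    (fun Q => by
      obtain ⟨P, s, hP, _, hfl, hs, _⟩ := exists_good_resolution Q
      exact ⟨P, s, hP, hfl, hs⟩) a hK

theorem exists_ses_of_distinguished (T : Triangle (DCoh.D X))
    (hT : T ∈ distTriang (DCoh.D X)) :
    ∃ (S : ShortComplex (CochainComplex X.Modules ℤ)), S.ShortExact ∧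
      (∀ q : ℤ, Nonempty (S.map (eval X.Modules (ComplexShape.up ℤ) q)).Splitting) ∧
      Good S.X₁ ∧ Good S.X₂ ∧ Good S.X₃ ∧ Nonempty (DCoh.toD X S.X₁ ≅ T.obj₁) ∧
      Nonempty (DCoh.toD X S.X₂ ≅ T.obj₂) ∧ Nonempty (DCoh.toD X S.X₃ ≅ T.obj₃) := by
  let K₁ := (Q (C := X.Modules)).objPreimage T.obj₁
  let e₁ : Q.obj K₁ ≅ T.obj₁ := (Q (C := X.Modules)).objObjPreimageIso T.obj₁
  let K₂ := (Q (C := X.Modules)).objPreimage T.obj₂
  let e₂ : Q.obj K₂ ≅ T.obj₂ := (Q (C := X.Modules)).objObjPreimageIso T.obj₂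
  let ψ : Q.obj K₁ ⟶ Q.obj K₂ := e₁.hom ≫ T.mor₁ ≫ e₂.inv
  obtain ⟨Y', s, hs, g, hψ⟩ := DerivedCategory.right_fac ψ
  obtain ⟨P, r, hP, _, _, hr, _⟩ := exists_good_resolution Y'
  obtain ⟨N, M, b, p, w, c, hS, hsplit, hN, hM, hc, hbc, _, _⟩ :=
    exists_good_factorization (r ≫ g) hP
  haveI : IsIso (Q.map r) := (isIso_Q_map_iff_quasiIso _ r).2 hr
  haveI : IsIso (Q.map c) := (isIso_Q_map_iff_quasiIso _ c).2 hc
  let u₁ : Q.obj P ≅ T.obj₁ := asIso (Q.map r) ≪≫ asIso (Q.map s) ≪≫ e₁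
  let u₂ : Q.obj N ≅ T.obj₂ := asIso (Q.map c) ≪≫ e₂
  have h1 : Q.map s ≫ ψ = Q.map g := by rw [hψ, IsIso.hom_inv_id_assoc]
  have h2 : Q.map g ≫ e₂.hom = Q.map s ≫ e₁.hom ≫ T.mor₁ := by
    rw [← h1]
    simp [ψ]
  have comm : Q.map b ≫ u₂.hom = u₁.hom ≫ T.mor₁ := by
    simp only [u₁, u₂, Iso.trans_hom, asIso_hom, Category.assoc]
    rw [← Q.map_comp_assoc, hbc, Q.map_comp_assoc, h2]
  let iso := isoTriangleOfIso₁₂ (triangleOfSES hS) T (triangleOfSES_distinguished hS) hT u₁ u₂ comm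
  exact ⟨ShortComplex.mk b p w, hS, hsplit, hP, hN, hM, ⟨u₁⟩, ⟨u₂⟩,
    ⟨Triangle.π₃.mapIso iso⟩⟩

theorem shortExact_tensor (S : ShortComplex (CochainComplex X.Modules ℤ))
    (hsplit : ∀ q : ℤ, Nonempty (S.map (eval X.Modules (ComplexShape.up ℤ) q)).Splitting)
    (G : X.Modules) :
    (S.map ((DCoh.tensorRightMod G).mapHomologicalComplex (ComplexShape.up ℤ))).ShortExact := by
  apply HomologicalComplex.shortExact_of_degreewise_shortExact
  intro q
  obtain ⟨σ⟩ := hsplit q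
  exact (σ.map (DCoh.tensorRightMod G)).shortExact

/-- The vanishing consequences of the long exact sequence of `H^i(- ⊗^L G)`. -/
theorem triangle_vanishing (T : Triangle (DCoh.D X)) (hT : T ∈ distTriang (DCoh.D X))
    (G : X.Modules) [DCoh.HasLTensorMod G] :
    (∀ i j : ℤ, i + 1 = j → IsZero (DCoh.HD ((DCoh.LTensorMod G).obj T.obj₂) i) →
      IsZero (DCoh.HD ((DCoh.LTensorMod G).obj T.obj₁) j) →
      IsZero (DCoh.HD ((DCoh.LTensorMod G).obj T.obj₃) i)) ∧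
    (∀ i : ℤ, IsZero (DCoh.HD ((DCoh.LTensorMod G).obj T.obj₁) i) →
      IsZero (DCoh.HD ((DCoh.LTensorMod G).obj T.obj₃) i) →
      IsZero (DCoh.HD ((DCoh.LTensorMod G).obj T.obj₂) i)) ∧
    (∀ i j : ℤ, i + 1 = j → IsZero (DCoh.HD ((DCoh.LTensorMod G).obj T.obj₃) i) →
      IsZero (DCoh.HD ((DCoh.LTensorMod G).obj T.obj₂) j) →
      IsZero (DCoh.HD ((DCoh.LTensorMod G).obj T.obj₁) j)) := by
  obtain ⟨S, hS, hsplit, h₁, h₂, h₃, ⟨e₁⟩, ⟨e₂⟩, ⟨e₃⟩⟩ := exists_ses_of_distinguished T hT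
  have hS' := shortExact_tensor S hsplit G
  have φ₁ := fun i => (nonempty_HD_iso G T.obj₁ S.X₁ h₁ e₁ i).some
  have φ₂ := fun i => (nonempty_HD_iso G T.obj₂ S.X₂ h₂ e₂ i).some
  have φ₃ := fun i => (nonempty_HD_iso G T.obj₃ S.X₃ h₃ e₃ i).some
  refine ⟨?_, ?_, ?_⟩
  · intro i j hij z₂ z₁
    have z₂' := IsZero.of_iso z₂ (φ₂ i).symm
    have z₁' := IsZero.of_iso z₁ (φ₁ j).symm
    have hex := hS'.homology_exact₃ i j hij
    exact IsZero.of_iso (hex.isZero_X₂ (z₂'.eq_of_src _ _) (z₁'.eq_of_tgt _ _)) (φ₃ i)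
  · intro i z₁ z₃
    have z₁' := IsZero.of_iso z₁ (φ₁ i).symm
    have z₃' := IsZero.of_iso z₃ (φ₃ i).symm
    have hex := hS'.homology_exact₂ i
    exact IsZero.of_iso (hex.isZero_X₂ (z₁'.eq_of_src _ _) (z₃'.eq_of_tgt _ _)) (φ₂ i)
  · intro i j hij z₃ z₂
    have z₃' := IsZero.of_iso z₃ (φ₃ i).symm
    have z₂' := IsZero.of_iso z₂ (φ₂ j).symm
    have hex := hS'.homology_exact₁ i j hij
    exact IsZero.of_iso (hex.isZero_X₂ (z₃'.eq_of_src _ _) (z₂'.eq_of_tgt _ _)) (φ₁ j)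

end Groth.Agent.Lib.Helper2.LDer.DC
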