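import Mathlib
import Groth.Agent.Lib.Helper2.LDer.DCohTri
import Groth.Agent.Lib.Helper2.PRes

/-!
# Flatness of cokernels from Tor-vanishing (helper2)

* `mono_opcyclesMap_of_isZero_homology`: for a short exact sequence of complexes with
  `H_i(X₃) = 0`, the map on `opcycles` in the next degree is a monomorphism.
* `isFlat_cokernel_of_vanishing`: if `E` has flat terms and `H^{a-1}(E ⊗ G) = 0` for all `G`, then
  the cokernel of `E^{a-1} ⟶ E^a` is flat.
* `exists_flat_resolution_of_isLE`, `isFlat_of_isZero`.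
-/

set_option autoImplicit false
universe u
open CategoryTheory Limits HomologicalComplex AlgebraicGeometry

attribute [local instance] HasDerivedCategory.standard

namespace Groth.Agent.Lib.Helper2.LDer

section General

variable {A : Type*} [Category A] [Abelian A] {ι : Type*} {c : ComplexShape ι}

lemma opcyclesMap_fromOpcycles {K L : HomologicalComplex A c} (φ : K ⟶ L) (i j : ι) :
    opcyclesMap φ i ≫ L.fromOpcycles i j = K.fromOpcycles i j ≫ φ.f j := by
  rw [← cancel_epi (K.pOpcycles i), p_opcyclesMap_assoc, p_fromOpcycles, p_fromOpcycles_assoc,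
    Hom.comm]

theorem mono_opcyclesMap_of_isZero_homology (S : ShortComplex (HomologicalComplex A c))
    (hS : S.ShortExact) (i j : ι) (hij : c.Rel i j) (hz : IsZero (S.X₃.homology i)) :
    Mono (opcyclesMap S.f j) := by
  have hex := hS.homology_exact₁ i j hij
  haveI hmono : Mono (homologyMap S.f j) := hex.mono_g (hz.eq_of_src _ _)
  haveI := hS.mono_f
  haveI : Mono (S.f.f (c.next j)) := inferInstance
  apply Preadditive.mono_of_cancel_zero
  intro Z k hk
  have h1 : k ≫ S.X₁.fromOpcycles j (c.next j) = 0 := by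
    rw [← cancel_mono (S.f.f (c.next j)), Category.assoc, ← opcyclesMap_fromOpcycles,
      reassoc_of% hk, zero_comp, zero_comp]
  let k' : Z ⟶ S.X₁.homology j :=
    (S.X₁.homologyIsKernel j _ rfl).lift (KernelFork.ofι k h1)
  have hk' : k' ≫ S.X₁.homologyι j = k :=
    (S.X₁.homologyIsKernel j _ rfl).fac _ WalkingParallelPair.zero
  have h2 : k' ≫ homologyMap S.f j = 0 := by
    rw [← cancel_mono (S.X₂.homologyι j), Category.assoc, homologyι_naturality,
      reassoc_of% hk', hk, zero_comp]
  have h3 : k' = 0 := by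
    rw [← cancel_mono (homologyMap S.f j), h2, zero_comp]
  rw [← hk', h3, zero_comp]

end General

namespace DC

open Groth.Agent.Lib.Helper2 Groth.Agent.Lib.Helper2.LDer Groth.Agent.Lib.Helper13

variable {X : Scheme.{u}}

theorem isFlat_of_isZero {M : X.Modules} (hM : IsZero M) : FlatMod.IsFlat M := by
  intro x
  unfold FlatMod.IsFlatAt
  haveI : Subsingleton (M.presheaf.stalk x) := ⟨fun a b => by
    have h1 : 𝟙 M = 0 := hM.eq_of_src _ _
    have ha : a = 0 := by
      rw [← StalkFlat.stalkLin_id_apply M x a, h1, StalkFlat.stalkLin_zero_apply]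
    have hb : b = 0 := by
      rw [← StalkFlat.stalkLin_id_apply M x b, h1, StalkFlat.stalkLin_zero_apply]
    rw [ha, hb]⟩
  infer_instance

theorem exists_flat_resolution_of_isLE (K : CochainComplex X.Modules ℤ) (a : ℤ) [K.IsLE a] :
    ∃ (Q : CochainComplex X.Modules ℤ) (α : Q ⟶ K), Q.IsStrictlyLE a ∧
      (∀ n, FlatMod.IsFlat (Q.X n)) ∧ QuasiIso α := by
  obtain ⟨Q, α, hQ, hQP, hα⟩ := @PRes.exists_resolution_of_isLE (ModSite.Mod X.sheaf) _ _
    (FreeSum.freeSum X.sheaf) (FreeSum.freeSum_zero X.sheaf) (FreeSum.freeSum_epi X.sheaf) K a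
    ‹K.IsLE a›
  refine ⟨Q, α, hQ, fun n => ?_, hα⟩
  obtain ⟨ι, U, ⟨e⟩⟩ := hQP n
  exact Groth.Agent.Lib.Helper21.StalkFlatG.stalkwise_of_isFlat _
    (Tot.MS.isFlat_of_iso_sigma_freeOn _ U e)

theorem isFlat_cokernel_of_vanishing (E : CochainComplex X.Modules ℤ)
    (hflat : ∀ n, FlatMod.IsFlat (E.X n)) (a' a : ℤ) (ha : a' + 1 = a)
    (hv : ∀ G : X.Modules, IsZero ((((DCoh.tensorRightMod G).mapHomologicalComplex
      (ComplexShape.up ℤ)).obj E).homology a')) :
    FlatMod.IsFlat (cokernel (E.d a' a)) := by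
  let TB := DCoh.tensorBi (X := X)
  let Z := cokernel (E.d a' a)
  let π : E.X a ⟶ Z := cokernel.π _
  have hrel : (ComplexShape.up ℤ).Rel a' a := ha
  have θ : ∀ G : X.Modules, ∃ t : (((TB.flip.obj G).mapHomologicalComplex
      (ComplexShape.up ℤ)).obj E).opcycles a ≅ (TB.flip.obj G).obj Z,
      (((TB.flip.obj G).mapHomologicalComplex (ComplexShape.up ℤ)).obj E).pOpcycles a ≫ t.hom =
        (TB.flip.obj G).map π := by
    intro G
    haveI : PreservesFiniteColimits (TB.flip.obj G) :=
      (inferInstance : PreservesFiniteColimits ((ModSite.tensorBi X.sheaf).flip.obj G))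
    have h1 := (((TB.flip.obj G).mapHomologicalComplex (ComplexShape.up ℤ)).obj E).opcyclesIsCokernel
      a' a (by simp [← ha])
    have h2 := CokernelCofork.mapIsColimit _ (cokernelIsCokernel (E.d a' a)) (TB.flip.obj G)
    exact ⟨IsColimit.coconePointUniqueUpToIso h1 h2,
      IsColimit.comp_coconePointUniqueUpToIso_hom h1 h2 WalkingParallelPair.one⟩
  have hmono : ∀ {G' G : X.Modules} (j : G' ⟶ G), Mono j → Mono ((TB.obj Z).map j) := by
    intro G' G j hj
    haveI := hj
    let q := cokernel.π j
    let S₀ : ShortComplex X.Modules := ShortComplex.mk j q (cokernel.condition j)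
    have hS₀ : S₀.ShortExact := ShortComplex.ShortExact.mk' (ShortComplex.exact_cokernel j)
      inferInstance (inferInstanceAs (Epi (cokernel.π j)))
    let αj := NatTrans.mapHomologicalComplex (TB.flip.map j) (ComplexShape.up ℤ)
    let αq := NatTrans.mapHomologicalComplex (TB.flip.map q) (ComplexShape.up ℤ)
    let S_c : ShortComplex (CochainComplex X.Modules ℤ) :=
      ShortComplex.mk (αj.app E) (αq.app E) (by
        refine HomologicalComplex.hom_ext _ _ (fun n => ?_)
        change (TB.flip.map j).app (E.X n) ≫ (TB.flip.map q).app (E.X n) = 0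
        rw [← NatTrans.comp_app, ← Functor.map_comp, cokernel.condition, Functor.map_zero]
        rfl)
    have hS_c : S_c.ShortExact := by
      apply HomologicalComplex.shortExact_of_degreewise_shortExact
      intro n
      haveI : PreservesFiniteLimits (TB.obj (E.X n)) :=
        (ModSiteFlatSES.preservesFiniteLimits_obj_of_isFlat
          (Groth.Agent.Lib.Helper21.StalkFlatD.isFlat_of_stalkwise _ (hflat n)) :
          PreservesFiniteLimits ((ModSite.tensorBi X.sheaf).obj (E.X n)))
      haveI : PreservesFiniteColimits (TB.obj (E.X n)) :=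
        (inferInstance : PreservesFiniteColimits ((ModSite.tensorBi X.sheaf).obj (E.X n)))
      exact hS₀.map_of_exact (TB.obj (E.X n))
    haveI hm := mono_opcyclesMap_of_isZero_homology S_c hS_c a' a hrel (hv (cokernel j))
    obtain ⟨t', ht'⟩ := θ G'
    obtain ⟨t, ht⟩ := θ G
    have hsq : opcyclesMap (αj.app E) a ≫ t.hom = t'.hom ≫ (TB.obj Z).map j := by
      rw [← cancel_epi ((((TB.flip.obj G').mapHomologicalComplex
        (ComplexShape.up ℤ)).obj E).pOpcycles a), p_opcyclesMap_assoc, ht, reassoc_of% ht']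
      exact ((TB.flip.map j).naturality π).symm
    have hfin : (TB.obj Z).map j = t'.inv ≫ opcyclesMap (αj.app E) a ≫ t.hom := by
      rw [hsq, Iso.inv_hom_id_assoc]
    rw [hfin]
    haveI : Mono (opcyclesMap S_c.f a) := hm
    exact mono_comp _ _
  apply Groth.Agent.Lib.Helper21.StalkFlatG.stalkwise_of_isFlat
  apply ModSiteFlatSES.isFlat_of_mono
  intro G' G j hj
  have h0 : Mono ((TB.obj Z).map j) := hmono j hj
  have hnat := (ModSiteFlat.objIsoFlipObj X.sheaf Z).hom.naturality j
  have h1 : Mono (((ModSite.tensorBi X.sheaf).obj Z).map j ≫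
      (ModSiteFlat.objIsoFlipObj X.sheaf Z).hom.app G) := by
    haveI : Mono (((ModSite.tensorBi X.sheaf).obj Z).map j) := h0
    exact mono_comp _ _
  rw [hnat] at h1
  have h2 : Mono ((ModSiteFlat.objIsoFlipObj X.sheaf Z).inv.app G' ≫
      (ModSiteFlat.objIsoFlipObj X.sheaf Z).hom.app G' ≫
        ((ModSite.tensorBi X.sheaf).flip.obj Z).map j) := by
    haveI := h1
    exact mono_comp _ _
  rw [Iso.inv_hom_id_app_assoc] at h2
  exact h2

end DC

end Groth.Agent.Lib.Helper2.LDer
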