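import Mathlib
import Groth.Agent.Lib.Helper2.LDer.DCohFlat

/-!
# Flat resolutions of a module and `Tor_1` (helper2)
-/

set_option autoImplicit false
universe u
open CategoryTheory Limits HomologicalComplex AlgebraicGeometry

attribute [local instance] HasDerivedCategory.standard

namespace Groth.Agent.Lib.Helper2.LDer.DC

open Groth.Agent.Lib.Helper2 Groth.Agent.Lib.Helper2.LDer DerivedCategory

variable {X : Scheme.{u}}

/-- A module in degree `0` has flat amplitude `[0, 0]` when it is flat. -/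
theorem hasFlatAmplitudeIn_inD (F : X.Modules) (hF : FlatMod.IsFlat F) :
    DCoh.HasFlatAmplitudeIn 0 0 (DCoh.inD X F) := by
  refine ⟨(CochainComplex.singleFunctor X.Modules 0).obj F, ?_, ?_, ⟨Iso.refl _⟩⟩
  · intro i hi
    exact isZero_single_obj_X (ComplexShape.up ℤ) 0 F i (by omega)
  · intro i
    by_cases hi : i = 0
    · subst hi
      exact StalkFlat.isFlat_of_iso (singleObjXSelf (ComplexShape.up ℤ) 0 F).symm hF
    · exact isFlat_of_isZero (isZero_single_obj_X (ComplexShape.up ℤ) 0 F i hi)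

/-- A flat resolution of a module, concentrated in degrees `≤ 0`. -/
theorem exists_flat_resolution_module (F : X.Modules) :
    ∃ (Q₀ : CochainComplex X.Modules ℤ) (_ : DCoh.toD X Q₀ ≅ DCoh.inD X F),
      Q₀.IsStrictlyLE 0 ∧ (∀ n, FlatMod.IsFlat (Q₀.X n)) ∧
      Nonempty (cokernel (Q₀.d (-1) 0) ≅ F) := by
  let E : CochainComplex X.Modules ℤ := (CochainComplex.singleFunctor X.Modules 0).obj F
  haveI : E.IsStrictlyLE 0 := inferInstance
  haveI : E.IsLE 0 := inferInstance
  obtain ⟨Q₀, α, h1, h2, h3⟩ := exists_flat_resolution_of_isLE E 0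
  haveI := h1
  haveI := h3
  haveI : IsIso (Q.map α) := (isIso_Q_map_iff_quasiIso _ α).2 h3
  let e₀ : Q.obj Q₀ ≅ Q.obj E := asIso (Q.map α)
  refine ⟨Q₀, e₀, h1, h2, ⟨?_⟩⟩
  have hd : Q₀.d 0 1 = 0 := (Q₀.isZero_of_isStrictlyLE 0 1 (by omega)).eq_of_tgt _ _
  haveI : IsIso (homologyMap α 0) := by
    have : QuasiIsoAt α 0 := inferInstance
    exact (quasiIsoAt_iff_isIso_homologyMap α 0).1 this
  have c1 := cokernelIsCokernel (Q₀.d (-1) 0)
  have c2 := Q₀.opcyclesIsCokernel (-1) 0 (by simp)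
  let i1 : cokernel (Q₀.d (-1) 0) ≅ Q₀.opcycles 0 := c1.coconePointUniqueUpToIso c2
  exact i1 ≪≫ (Q₀.isoHomologyι 0 1 (by simp) hd).symm ≪≫ asIso (homologyMap α 0) ≪≫
    singleObjHomologySelfIso (ComplexShape.up ℤ) 0 F

end Groth.Agent.Lib.Helper2.LDer.DC
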