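import Mathlib
import Groth.Agent.Lib.Helper2.LDer.DCohModule
import Groth.Agent.Lib.Helper13.ModSiteUnitor

/-!
# Tor amplitude implies flat amplitude (helper2)
-/

set_option autoImplicit false
universe u
open CategoryTheory Limits HomologicalComplex AlgebraicGeometry

attribute [local instance] HasDerivedCategory.standard

namespace Groth.Agent.Lib.Helper2.LDer.DC

open Groth.Agent.Lib.Helper2 Groth.Agent.Lib.Helper2.LDer DerivedCategory

variable {X : Scheme.{u}}

/-- Tensoring termwise with the structure sheaf does nothing. -/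
noncomputable def tensorUnitIso (P : CochainComplex X.Modules ℤ) :
    (((ModSite.tensorBi X.sheaf).flip.obj (ModSite.unit X.sheaf)).mapHomologicalComplex
      (ComplexShape.up ℤ)).obj P ≅ P :=
  (NatIso.mapHomologicalComplex
      (Groth.Agent.Lib.Helper13.ModSiteUnitor.rightUnitorIso X.sheaf) (ComplexShape.up ℤ)).app P ≪≫
    (Functor.mapHomologicalComplexIdIso _ (ComplexShape.up ℤ)).app P

/-- The cohomology of `K ⊗^L O_X` is the cohomology of `K`. -/
theorem isZero_homology_of_isZero_HD_unit (K₀ : CochainComplex X.Modules ℤ) (E : DCoh.D X)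
    (e₀ : DCoh.toD X K₀ ≅ E) (i : ℤ)
    (hz : ∀ [DCoh.HasLTensorMod (ModSite.unit X.sheaf)],
      IsZero (DCoh.HD ((DCoh.LTensorMod (ModSite.unit X.sheaf)).obj E) i)) :
    IsZero (K₀.homology i) := by
  obtain ⟨P, s, hP, _, _, hs, _⟩ := exists_good_resolution K₀
  haveI := hasLTensorMod (X := X) (ModSite.unit X.sheaf)
  haveI := hs
  haveI : IsIso (Q.map s) := (isIso_Q_map_iff_quasiIso _ s).2 hs
  let e₁ : Q.obj P ≅ Q.obj K₀ := asIso (Q.map s)
  obtain ⟨φ⟩ := nonempty_HD_iso (ModSite.unit X.sheaf) E P hP (e₁ ≪≫ e₀) i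
  have z := IsZero.of_iso hz φ.symm
  have z' : IsZero (P.homology i) :=
    IsZero.of_iso z ((homologyFunctor _ _ i).mapIso (tensorUnitIso P)).symm
  haveI : IsIso (homologyMap s i) := by
    have : QuasiIsoAt s i := inferInstance
    exact (quasiIsoAt_iff_isIso_homologyMap s i).1 this
  exact IsZero.of_iso z' (asIso (homologyMap s i)).symm

theorem hasFlatAmplitudeIn_of_hasTorAmplitudeIn (E : DCoh.D X) (a b : ℤ) (hab : a ≤ b)
    (hE : DCoh.HasTorAmplitudeIn a b E) : DCoh.HasFlatAmplitudeIn a b E := by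
  let K₀ := (Q (C := X.Modules)).objPreimage E
  let e₀ : Q.obj K₀ ≅ E := (Q (C := X.Modules)).objObjPreimageIso E
  have hH : ∀ i : ℤ, (i < a ∨ b < i) → IsZero (K₀.homology i) := fun i hi =>
    isZero_homology_of_isZero_HD_unit K₀ E e₀ i (hE (ModSite.unit X.sheaf) i hi)
  haveI : K₀.IsLE b := by
    rw [CochainComplex.isLE_iff]
    intro i hi
    exact (exactAt_iff_isZero_homology _ _).2 (hH i (Or.inr hi))
  obtain ⟨Q₁, α, h1, h2, h3⟩ := exists_flat_resolution_of_isLE K₀ b
  haveI := h1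
  haveI := h3
  haveI : IsIso (Q.map α) := (isIso_Q_map_iff_quasiIso _ α).2 h3
  let e₁ : Q.obj Q₁ ≅ Q.obj K₀ := asIso (Q.map α)
  haveI : Q₁.IsGE a := by
    rw [CochainComplex.isGE_iff]
    intro i hi
    haveI : IsIso (homologyMap α i) := by
      have : QuasiIsoAt α i := inferInstance
      exact (quasiIsoAt_iff_isIso_homologyMap α i).1 this
    exact (exactAt_iff_isZero_homology _ _).2
      (IsZero.of_iso (hH i (Or.inl hi)) (asIso (homologyMap α i)))
  have hG := good_of_isStrictlyLE Q₁ b h2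
  have hcok : FlatMod.IsFlat (cokernel (Q₁.d (a - 1) a)) :=
    isFlat_cokernel_of_vanishing Q₁ h2 (a - 1) a (by omega) (fun G => by
      haveI := hasLTensorMod (X := X) G
      obtain ⟨φ⟩ := nonempty_HD_iso G E Q₁ hG (e₁ ≪≫ e₀) (a - 1)
      exact IsZero.of_iso (hE G (a - 1) (Or.inl (by omega))) φ.symm)
  haveI : IsIso (Q.map (Q₁.πTruncGE a)) :=
    (isIso_Q_map_iff_quasiIso _ _).2 inferInstance
  let e₂ : Q.obj Q₁ ≅ Q.obj (Q₁.truncGE a) := asIso (Q.map (Q₁.πTruncGE a))
  refine ⟨Q₁.truncGE a, ?_, ?_, ⟨e₂.symm ≪≫ e₁ ≪≫ e₀⟩⟩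
  · intro i hi
    rcases hi with hi | hi
    · exact (Q₁.truncGE a).isZero_of_isStrictlyGE a i hi
    · exact IsZero.of_iso (Q₁.isZero_of_isStrictlyLE b i hi) (Q₁.truncGEXIso a i (by omega))
  · intro i
    rcases lt_trichotomy i a with h | h | h
    · exact isFlat_of_isZero ((Q₁.truncGE a).isZero_of_isStrictlyGE a i h)
    · subst h
      have c1 := cokernelIsCokernel (Q₁.d (i - 1) i)
      have c2 := Q₁.opcyclesIsCokernel (i - 1) i (by simp)
      let i1 : cokernel (Q₁.d (i - 1) i) ≅ Q₁.opcycles i := c1.coconePointUniqueUpToIso c2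
      exact StalkFlat.isFlat_of_iso (i1 ≪≫ (Q₁.truncGEXIsoOpcycles i).symm) hcok
    · exact StalkFlat.isFlat_of_iso (Q₁.truncGEXIso a i h).symm (h2 i)

end Groth.Agent.Lib.Helper2.LDer.DC
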