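import Mathlib
import Groth.Agent.Lib.Helper2.LDer.Adapted

/-!
# Recognising left derived functors on an adapted class (helper2)

If `β : L ⋙ G ⟶ F` is an isomorphism on the objects of an adapted class, then `(G, β)` is a left
derived functor of `F`.
-/

set_option autoImplicit false

namespace Groth.Agent.Lib.Helper2.LDer

open CategoryTheory Limits Category

universe v₁ v₂ v₃ u₁ u₂ u₃

variable {C : Type u₁} {D : Type u₂} {H : Type u₃}
  [Category.{v₁} C] [Category.{v₂} D] [Category.{v₃} H]
  {W : MorphismProperty C} {L : C ⥤ D} {F : C ⥤ H} {P : C → Prop}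

theorem Adapted.isLeftDerivedFunctor_of_isIso (h : Adapted W L F P) [L.IsLocalization W]
    (G : D ⥤ H) (β : L ⋙ G ⟶ F) (hβ : ∀ Y, P Y → IsIso (β.app Y)) :
    G.IsLeftDerivedFunctor β W := by
  haveI := h.hasLeftDerivedFunctor
  rw [Functor.isLeftDerivedFunctor_iff_isIso_leftDerivedLift (F.totalLeftDerived L W)
    (F.totalLeftDerivedCounit L W) W G β]
  haveI : ∀ d, IsIso (((F.totalLeftDerived L W).leftDerivedLift
      (F.totalLeftDerivedCounit L W) W G β).app d) := by
    intro d
    haveI := Localization.essSurj L W
    obtain ⟨Y, s, hY, hs⟩ := h.res (L.objPreimage d)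
    haveI : IsIso (L.map s) := Localization.inverts L W s hs
    let e' : L.obj Y ≅ d := asIso (L.map s) ≪≫ L.objObjPreimageIso d
    haveI : IsIso (((F.totalLeftDerived L W).leftDerivedLift
        (F.totalLeftDerivedCounit L W) W G β).app (L.obj Y)) := by
      have h1 := (F.totalLeftDerived L W).leftDerived_fac_app
        (F.totalLeftDerivedCounit L W) W G β Y
      haveI := h.isIso_app (F.totalLeftDerived L W) (F.totalLeftDerivedCounit L W) hY
      haveI := hβ Y hY
      have h2 : ((F.totalLeftDerived L W).leftDerivedLift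
          (F.totalLeftDerivedCounit L W) W G β).app (L.obj Y) =
          β.app Y ≫ CategoryTheory.inv ((F.totalLeftDerivedCounit L W).app Y) := by
        rw [← h1, assoc, IsIso.hom_inv_id, comp_id]
      rw [h2]
      infer_instance
    exact (NatTrans.isIso_app_iff_of_iso _ e').1 inferInstance
  exact NatIso.isIso_of_isIso_app _

/-- The resulting isomorphism with the total left derived functor. -/
noncomputable def Adapted.isoTotalLeftDerived (h : Adapted W L F P) [L.IsLocalization W]
    [F.HasLeftDerivedFunctor W]
    (G : D ⥤ H) (β : L ⋙ G ⟶ F) (hβ : ∀ Y, P Y → IsIso (β.app Y)) :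
    G ≅ F.totalLeftDerived L W :=
  haveI := h.isLeftDerivedFunctor_of_isIso G β hβ
  Functor.leftDerivedNatIso G (F.totalLeftDerived L W) β (F.totalLeftDerivedCounit L W) W (Iso.refl F)

end Groth.Agent.Lib.Helper2.LDer
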